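import Cfsg.Agent.H458.Spr.PSp6
import Cfsg.Agent.S5806

/-!
# S3938: the row `PSp_6(q)`, `q` odd (with S5806)
-/

set_option autoImplicit false

namespace Cfsg.Agent.H458.Spr6

open Cfsg Cfsg.Geo
open Cfsg.Agent.H424.Spr (Spr)

universe u

/-- **`Spr (PSp_6(q))`, `q` odd.** -/
theorem spr_psp3 {F : Type u} [Field F] [Fintype F] (hodd : Odd (Fintype.card F)) : Spr (PSp 3 F) := by
  obtain ⟨p, hc⟩ := CharP.exists F
  obtain ⟨k, hp, hk⟩ := FiniteField.card F p
  have hk0 : (k : ℕ) ≠ 0 := k.ne_zero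
  have h2 : p ≠ 2 := by
    rintro rfl
    rw [hk] at hodd
    exact absurd hodd (by simp [Nat.not_odd_iff_even, Nat.even_pow, hk0])
  exact spr_psp6 (p := p) (f := (k : ℕ)) (fun H hH hS => S5806.result H hH hS) hp (by have := hp.two_le; omega)
    (by omega) (by rw [Nat.card_eq_fintype_card, hk])

end Cfsg.Agent.H458.Spr6
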