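import Cfsg.Agent.H458.Spr.Res
import Cfsg.Agent.H109.Cov.Main
import Cfsg.Agent.H424.Spr.Two
import Cfsg.Agent.LieClassical.SympCenter
import Cfsg.Agent.S0270

/-!
# S3938: the row `PSp_6(q)`, `q` odd

`s = b = x t`, `x` of order `s` (primitive prime divisor of `q ^ 4 - 1`), `t` the transvection with centre `v`, a fixed
vector of `x`.  The proper overgroups of `b` stabilise the line `⟨v⟩` or the fixed space of `x` (a non-degenerate plane).
-/

set_option autoImplicit false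

namespace Cfsg.Agent.H458.Spr6

open Cfsg Cfsg.Geo Module Cfsg.Agent.ClassicalGeometry.SympBasic Cfsg.Agent.H109.Cov
open Cfsg.Agent.H876 (spToGL)
open Cfsg.Agent.H424.Spr (Spr spr_of_two_up)
open scoped Matrix MatrixGroups

universe u

variable {F : Type u} [Field F] [Fintype F] {p f : ℕ}

/-- the element and its powers -/
structure Elt (F : Type u) [Field F] [Fintype F] (p f s : ℕ) (x : Matrix.symplecticGroup (Fin 3) F)
    (v : Fin 3 ⊕ Fin 3 → F) : Prop where
  pow : x ^ s = 1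
  ord : orderOf x = s
  v0 : v ≠ 0
  fix : v ∈ fx (spToGL 3 F x)
  dim : finrank F (fx (spToGL 3 F x)) = 2
  comm : Commute x (transv v (1 : F))
  ordt : orderOf (transv v (1 : F)) = p
  co : Nat.Coprime s p
  left : ∃ k, (x * transv v (1 : F)) ^ k = x
  right : ∃ k, (x * transv v (1 : F)) ^ k = transv v (1 : F)

theorem exists_b' (hp : p.Prime) (hf : 1 ≤ f) (hF : Nat.card F = p ^ f) {s : ℕ} (hs : PP p f 4 s) :
    ∃ x v, Elt F p f s x v := by
  obtain ⟨x, hx⟩ := hs.exists_sp (F := F) hf hF (Or.inl rfl)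
  have hxs : x ^ s = 1 := by rw [← hx, pow_orderOf_eq_one]
  have hx1 : x ≠ 1 := by
    rintro rfl
    rw [orderOf_one] at hx
    exact hs.prime.one_lt.ne hx
  have hfx : finrank F (fx (spToGL 3 F x)) = 2 := by
    apply four_fx hs hf hF
    · rw [← map_pow, hxs, map_one]
    · intro h
      apply hx1
      exact spToGL_inj (h.trans (map_one _).symm)
  have hne : fx (spToGL 3 F x) ≠ ⊥ := by
    intro h
    rw [h, finrank_bot] at hfx
    omega
  obtain ⟨v, hv, hv0⟩ := (Submodule.ne_bot_iff _).1 hne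
  have hcomm : Commute x (transv v (1 : F)) := by
    apply Subtype.ext
    change (x : Matrix (Fin 3 ⊕ Fin 3) (Fin 3 ⊕ Fin 3) F) * sympTransvection 3 v 1 =
      sympTransvection 3 v 1 * (x : Matrix (Fin 3 ⊕ Fin 3) (Fin 3 ⊕ Fin 3) F)
    rw [mul_sympTransvection x.2]
    have h1 : (x : Matrix (Fin 3 ⊕ Fin 3) (Fin 3 ⊕ Fin 3) F) *ᵥ v = v := hv
    rw [h1]
  have hch : (p : F) = 0 := by
    obtain ⟨c, hc⟩ := CharP.exists F
    obtain ⟨k, hcp, hk⟩ := FiniteField.card F c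
    have h3 : c = p := char_eq hp hF hcp
    rw [← h3]
    exact CharP.cast_eq_zero F c
  have ht : (transv v (1 : F)) ^ p = 1 := by
    rw [transv_pow, hch]
    apply Subtype.ext
    rw [coe_transv, sympTransvection_zero]
    rfl
  have hto : orderOf (transv v (1 : F)) = p := by
    have := Fact.mk hp
    apply orderOf_eq_prime ht
    intro h
    have h2 := finrank_ker_transv (F := F) hv0
    rw [h, map_one, Units.val_one, Matrix.toLin'_one, map_sub, Polynomial.aeval_X, map_one] at h2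
    have h3 : (LinearMap.id : (Fin 3 ⊕ Fin 3 → F) →ₗ[F] (Fin 3 ⊕ Fin 3 → F)) - 1 = 0 := sub_self _
    rw [h3, LinearMap.ker_zero, finrank_top, finrank_fintype_fun_eq_card] at h2
    have h4 : Fintype.card (Fin 3 ⊕ Fin 3) = 6 := rfl
    omega
  have hco : Nat.Coprime s p := (Nat.coprime_primes hs.prime hp).2 (hs.ne_char hp)
  exact ⟨x, v, hxs, hx, hv0, hv, hfx, hcomm, hto, hco, exists_pow_left hcomm hxs ht hco,
    exists_pow_right hcomm hxs ht hco⟩

section inv

variable {s : ℕ} {x : Matrix.symplecticGroup (Fin 3) F} {v : Fin 3 ⊕ Fin 3 → F}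

theorem Elt.le_fx (E : Elt F p f s x v) (hf : 1 ≤ f) (hF : Nat.card F = p ^ f) (hs : PP p f 4 s)
    {W : Submodule F (Fin 3 ⊕ Fin 3 → F)} (hW : Inv (spToGL 3 F (x * transv v 1)) W) (h2 : finrank F W ≤ 2) :
    W ≤ fx (spToGL 3 F x) := by
  obtain ⟨k, hk⟩ := E.left
  have h1 : Inv (spToGL 3 F x) W := by
    have := hW.pow k
    rwa [← map_pow, hk] at this
  have h3 := hs.dvd_dim hf hF (g := spToGL 3 F x) (by rw [← map_pow, E.pow, map_one]) h1
  have h4 : finrank F (W ⊓ fx (spToGL 3 F x) : Submodule F _) ≤ finrank F W := Submodule.finrank_mono inf_le_left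
  exact inf_eq_left.1 (Submodule.eq_of_le_of_finrank_eq inf_le_left (by omega))

theorem Elt.line (E : Elt F p f s x v) (hp : p.Prime) (hf : 1 ≤ f) (hF : Nat.card F = p ^ f) (hs : PP p f 4 s)
    {W : Submodule F (Fin 3 ⊕ Fin 3 → F)} (hW : Inv (spToGL 3 F (x * transv v 1)) W) (h1 : finrank F W = 1) :
    W = Submodule.span F {v} := by
  have hle := E.le_fx hf hF hs hW (by omega)
  obtain ⟨k, hk⟩ := E.right
  have h2 : Inv (spToGL 3 F (transv v 1)) W := by
    have := hW.pow k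
    rwa [← map_pow, hk] at this
  have hv1 : finrank F (Submodule.span F {v}) = 1 := finrank_span_singleton E.v0
  suffices hvW : v ∈ W by
    symm
    exact Submodule.eq_of_le_of_finrank_eq (by rw [Submodule.span_singleton_le_iff_mem]; exact hvW) (by omega)
  by_contra hvW
  have h3 : ∀ w ∈ W, sympForm 3 F w v = 0 := by
    intro w hw
    by_contra h0
    apply hvW
    have h4 : sympTransvection 3 v 1 *ᵥ w ∈ W := h2 w hw
    rw [sympTransvection_mulVec, one_mul] at h4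
    have h5 := (Submodule.add_mem_iff_right W hw).1 h4
    exact (Submodule.smul_mem_iff W h0).1 h5
  have h4 : W ⊔ Submodule.span F {v} = fx (spToGL 3 F x) := by
    have h5 : W ⊔ Submodule.span F {v} ≤ fx (spToGL 3 F x) :=
      sup_le hle (by rw [Submodule.span_singleton_le_iff_mem]; exact E.fix)
    refine Submodule.eq_of_le_of_finrank_eq h5 ?_
    have h6 := Submodule.finrank_sup_add_finrank_inf_eq W (Submodule.span F {v})
    have h7 : W ⊓ Submodule.span F {v} = ⊥ := by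
      rw [eq_bot_iff]
      intro w hw
      obtain ⟨c, rfl⟩ := Submodule.mem_span_singleton.1 hw.2
      by_cases hc : c = 0
      · rw [hc, zero_smul]; exact Submodule.zero_mem _
      · exact absurd ((Submodule.smul_mem_iff W hc).1 hw.1) hvW
    rw [h7, finrank_bot, h1, hv1] at h6
    rw [E.dim]
    omega
  have hsp : spToGL 3 F x ∈ spGL 3 F := H931.spToGL_mem x
  obtain ⟨y, hy, hy1⟩ := fx_nd hsp (l := s) (by rw [← map_pow, E.pow, map_one])
    (cast_ne hp hF hs.prime (hs.ne_char hp)) E.fix E.v0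
  rw [← h4] at hy
  obtain ⟨w, hw, z, hz, rfl⟩ := Submodule.mem_sup.1 hy
  obtain ⟨c, rfl⟩ := Submodule.mem_span_singleton.1 hz
  apply hy1
  rw [sympForm_add_left, sympForm_smul_left, h3 w hw, sympForm_self, mul_zero, add_zero]

theorem Elt.plane (E : Elt F p f s x v) (hf : 1 ≤ f) (hF : Nat.card F = p ^ f) (hs : PP p f 4 s)
    {W : Submodule F (Fin 3 ⊕ Fin 3 → F)} (hW : Inv (spToGL 3 F (x * transv v 1)) W) (h2 : finrank F W ≤ 2)
    (hW0 : W ≠ ⊥) (hnd : IsNondegenerateOn (sympForm 3 F) W) : W = fx (spToGL 3 F x) := by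
  have hle := E.le_fx hf hF hs hW h2
  refine Submodule.eq_of_le_of_finrank_eq hle ?_
  rw [E.dim]
  have h0 : finrank F W ≠ 0 := by
    rw [Ne, Submodule.finrank_eq_zero]; exact hW0
  by_contra hcon
  have h1 : finrank F W ≤ 1 := by omega
  obtain ⟨⟨w, hw⟩, hgen⟩ := finrank_le_one_iff.1 h1
  obtain ⟨u, hu, hu0⟩ := (Submodule.ne_bot_iff _).1 hW0
  obtain ⟨⟨y, hy, hy1⟩, -⟩ := hnd u hu hu0
  obtain ⟨c, hc⟩ := hgen ⟨u, hu⟩
  obtain ⟨d, hd⟩ := hgen ⟨y, hy⟩
  have hc' : c • w = u := congrArg Subtype.val hc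
  have hd' : d • w = y := congrArg Subtype.val hd
  apply hy1
  rw [← hc', ← hd', sympForm_smul_left, sympForm_smul_right, sympForm_self, mul_zero, mul_zero]

end inv

/-- the stabiliser of a subspace in the symplectic group -/
noncomputable def stab (W : Submodule F (Fin 3 ⊕ Fin 3 → F)) : Subgroup (Matrix.symplecticGroup (Fin 3) F) :=
  (subspaceStabilizer W).comap (spToGL 3 F)

omit [Fintype F] in
theorem stab_ne_top {W : Submodule F (Fin 3 ⊕ Fin 3 → F)} (hW : W ≠ ⊥) (hW' : W ≠ ⊤) : stab W ≠ ⊤ := by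
  intro h
  apply H931.spGL_not_le_subspaceStabilizer hW hW'
  rw [← H931.map_spToGL_top, ← h]
  exact Subgroup.map_comap_le _ _

omit [Fintype F] in
theorem ker_le_stab (W : Submodule F (Fin 3 ⊕ Fin 3 → F)) :
    (QuotientGroup.mk' (Subgroup.center (Matrix.symplecticGroup (Fin 3) F))).ker ≤ stab W := by
  rw [QuotientGroup.ker_mk']
  intro A hA
  obtain ⟨a, ha⟩ := (LieClassical.SympCenter.mem_center_iff 3 A).1 hA
  have ha0 : a ≠ 0 := by
    rintro rfl
    have h1 : (A * A⁻¹ : Matrix.symplecticGroup (Fin 3) F) = 1 := mul_inv_cancel A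
    have h2 := congrArg Subtype.val h1
    rw [Submonoid.coe_mul, ha, zero_smul, zero_mul] at h2
    have h3 := congrFun (congrFun h2 (Sum.inl 0)) (Sum.inl 0)
    simp at h3
  intro u
  have h1 : glToMat (Fin 3 ⊕ Fin 3) F (spToGL 3 F A) = a • (1 : Matrix (Fin 3 ⊕ Fin 3) (Fin 3 ⊕ Fin 3) F) := ha
  rw [h1, Matrix.smul_mulVec, Matrix.one_mulVec]
  exact (Submodule.smul_mem_iff W ha0).symm

omit [Fintype F] in
theorem mem_stab_of_comap {y : Matrix.symplecticGroup (Fin 3) F} {W : Submodule F (Fin 3 ⊕ Fin 3 → F)}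
    (h : W.comap (Matrix.toLin' ((spToGL 3 F y : GL (Fin 3 ⊕ Fin 3) F) : Matrix (Fin 3 ⊕ Fin 3) (Fin 3 ⊕ Fin 3) F)) = W) :
    y ∈ stab W := by
  intro u
  have h1 : u ∈ W.comap (Matrix.toLin' ((spToGL 3 F y : GL (Fin 3 ⊕ Fin 3) F) :
    Matrix (Fin 3 ⊕ Fin 3) (Fin 3 ⊕ Fin 3) F)) ↔ u ∈ W := by rw [h]
  rw [Submodule.mem_comap, Matrix.toLin'_apply] at h1
  exact h1.symm

omit [Fintype F] in
theorem mulVec_fx {x g : Matrix.symplecticGroup (Fin 3) F} (hg : Commute x g) {u : Fin 3 ⊕ Fin 3 → F}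
    (hu : u ∈ fx (spToGL 3 F x)) : (g : Matrix (Fin 3 ⊕ Fin 3) (Fin 3 ⊕ Fin 3) F) *ᵥ u ∈ fx (spToGL 3 F x) := by
  have h1 := congrArg Subtype.val hg.eq
  have h2 : (x : Matrix (Fin 3 ⊕ Fin 3) (Fin 3 ⊕ Fin 3) F) * (g : Matrix (Fin 3 ⊕ Fin 3) (Fin 3 ⊕ Fin 3) F) =
    (g : Matrix (Fin 3 ⊕ Fin 3) (Fin 3 ⊕ Fin 3) F) * (x : Matrix (Fin 3 ⊕ Fin 3) (Fin 3 ⊕ Fin 3) F) := h1
  have h3 : (x : Matrix (Fin 3 ⊕ Fin 3) (Fin 3 ⊕ Fin 3) F) *ᵥ u = u := hu
  show (x : Matrix (Fin 3 ⊕ Fin 3) (Fin 3 ⊕ Fin 3) F) *ᵥ ((g : Matrix (Fin 3 ⊕ Fin 3) (Fin 3 ⊕ Fin 3) F) *ᵥ u) =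
    (g : Matrix (Fin 3 ⊕ Fin 3) (Fin 3 ⊕ Fin 3) F) *ᵥ u
  rw [Matrix.mulVec_mulVec, h2, ← Matrix.mulVec_mulVec, h3]

omit [Fintype F] in
theorem mem_stab_fx {x g : Matrix.symplecticGroup (Fin 3) F} (hg : Commute x g) :
    g ∈ stab (fx (spToGL 3 F x)) := by
  intro u
  constructor
  · intro hu
    exact mulVec_fx hg hu
  · intro hu
    have h1 := mulVec_fx hg.inv_right hu
    have h3 : g⁻¹ * g = 1 := inv_mul_cancel _
    have h4 := congrArg Subtype.val h3
    have h5 : ((g⁻¹ : Matrix.symplecticGroup (Fin 3) F) : Matrix (Fin 3 ⊕ Fin 3) (Fin 3 ⊕ Fin 3) F) *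
      (g : Matrix (Fin 3 ⊕ Fin 3) (Fin 3 ⊕ Fin 3) F) = 1 := h4
    have h2 : ((g⁻¹ : Matrix.symplecticGroup (Fin 3) F) : Matrix (Fin 3 ⊕ Fin 3) (Fin 3 ⊕ Fin 3) F) *ᵥ
        (glToMat (Fin 3 ⊕ Fin 3) F (spToGL 3 F g) *ᵥ u) = u := by
      have h6 : glToMat (Fin 3 ⊕ Fin 3) F (spToGL 3 F g) = (g : Matrix (Fin 3 ⊕ Fin 3) (Fin 3 ⊕ Fin 3) F) := rfl
      rw [h6, Matrix.mulVec_mulVec, h5, Matrix.one_mulVec]
    rwa [h2] at h1

omit [Fintype F] in
/-- a subgroup conjugate to `stab W` containing `b` -/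
theorem inv_of_conj {y b : Matrix.symplecticGroup (Fin 3) F} {W : Submodule F (Fin 3 ⊕ Fin 3 → F)}
    (hb : b ∈ (stab W).map (MulAut.conj y).toMonoidHom) :
    Inv (spToGL 3 F b) (W.comap (Matrix.toLin' ((spToGL 3 F y⁻¹ : GL (Fin 3 ⊕ Fin 3) F) :
      Matrix (Fin 3 ⊕ Fin 3) (Fin 3 ⊕ Fin 3) F))) := by
  obtain ⟨z, hz, hzb⟩ := hb
  have hzb' : y * z * y⁻¹ = b := hzb
  have hz' : z = y⁻¹ * b * (y⁻¹)⁻¹ := by
    rw [← hzb']; group
  have h1 : spToGL 3 F z ∈ subspaceStabilizer W := hz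
  rw [hz', map_mul, map_mul, map_inv (spToGL 3 F) y⁻¹] at h1
  exact inv_conj (inv_of_mem h1)

omit [Fintype F] in
theorem conj_stab {y : Matrix.symplecticGroup (Fin 3) F} {W : Submodule F (Fin 3 ⊕ Fin 3 → F)} (hy : y ∈ stab W) :
    (stab W).map (MulAut.conj y).toMonoidHom = stab W := by
  apply le_antisymm
  · rintro _ ⟨z, hz, rfl⟩
    exact (stab W).mul_mem ((stab W).mul_mem hy hz) ((stab W).inv_mem hy)
  · intro z hz
    refine ⟨y⁻¹ * z * y, (stab W).mul_mem ((stab W).mul_mem ((stab W).inv_mem hy) hz) hy, ?_⟩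
    show y * (y⁻¹ * z * y) * y⁻¹ = z
    group

theorem psp6_not_comm : ∃ a b : PSp 3 F, a * b ≠ b * a := by
  have hsimple : IsSimpleGroup (PSp 3 F) := S0270.result 3 (by norm_num) (by norm_num)
  by_contra hcon
  push Not at hcon
  have hperf : commutator (Matrix.symplecticGroup (Fin 3) F) = ⊤ := S0269.result 3 (Or.inl le_rfl)
  have h1 : commutator (Matrix.symplecticGroup (Fin 3) F) ≤ Subgroup.center (Matrix.symplecticGroup (Fin 3) F) := by
    rw [commutator_def, Subgroup.commutator_le]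
    intro a _ b _
    rw [commutatorElement_def, ← QuotientGroup.eq_one_iff, QuotientGroup.mk_mul, QuotientGroup.mk_mul,
      QuotientGroup.mk_mul, QuotientGroup.mk_inv, QuotientGroup.mk_inv, hcon (a : PSp 3 F) (b : PSp 3 F)]
    group
  rw [hperf] at h1
  have h2 : Subsingleton (PSp 3 F) := by
    constructor
    intro a b
    obtain ⟨a, rfl⟩ := QuotientGroup.mk_surjective a
    obtain ⟨b, rfl⟩ := QuotientGroup.mk_surjective b
    rw [QuotientGroup.eq]
    exact h1 (Subgroup.mem_top _)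
  exact not_subsingleton _ h2

/-- the proper overgroups of `b` -/
theorem over_b (h06 : ∀ H : Subgroup (GL (Fin 3 ⊕ Fin 3) F), IsMaximalIn (spGL 3 F) H →
    InSymplecticResidualClass H → L06 H) (hp : p.Prime) (h3 : 3 ≤ p) (hf : 1 ≤ f) (hF : Nat.card F = p ^ f)
    {s : ℕ} (hs : PP p f 4 s) {x : Matrix.symplecticGroup (Fin 3) F} {v : Fin 3 ⊕ Fin 3 → F} (E : Elt F p f s x v)
    {K : Subgroup (Matrix.symplecticGroup (Fin 3) F)} (hbK : x * transv v (1 : F) ∈ K) (hK : K ≠ ⊤) :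
    K ≤ stab (Submodule.span F {v}) ∨ K ≤ stab (fx (spToGL 3 F x)) := by
  classical
  have hfin : Finite (Matrix.symplecticGroup (Fin 3) F) := inferInstance
  have hp2 : Nat.Coprime p 2 := (Nat.coprime_primes hp Nat.prime_two).2 (by omega)
  have hord : ∀ x : Matrix.symplecticGroup (Fin 3) F, orderOf (spToGL 3 F x) = orderOf x :=
    fun x => orderOf_injective _ spToGL_inj x
  have hbo : orderOf (x * transv v (1 : F)) = s * p := by
    rw [E.comm.orderOf_mul_eq_mul_orderOf_of_coprime (by rw [E.ord, E.ordt]; exact E.co), E.ord, E.ordt]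
  obtain ⟨N, hN, hKN⟩ := (eq_top_or_exists_le_coatom K).resolve_left hK
  have hmax := isMaximalIn_map hN
  have hbN : spToGL 3 F (x * transv v 1) ∈ N.map (spToGL 3 F) := ⟨_, hKN hbK, rfl⟩
  have hd0 : s * p ∣ Nat.card (N.map (spToGL 3 F)) := by
    rw [← hbo, ← hord, ← Subgroup.orderOf_mk _ hbN]
    exact orderOf_dvd_natCard _
  have hd1 : s ∣ Nat.card (N.map (spToGL 3 F)) := (dvd_mul_right _ _).trans hd0
  have hd2 : p ∣ Nat.card (N.map (spToGL 3 F)) := (dvd_mul_left _ _).trans hd0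
  have hres : ¬ InSymplecticResidualClass (N.map (spToGL 3 F)) := by
    intro h
    rcases Nat.lt_or_ge p 5 with h5 | h5
    · have h33 : p = 3 := by
        have h4 : p ≠ 4 := by
          rintro rfl
          norm_num at hp
        omega
      subst h33
      exact res_three hf hF hs hmax.1.le (h06 _ hmax h) hd1 hbN (by rw [hord, hbo])
    · exact res_false hp h5 hf hF hs hmax.1.le (h06 _ hmax h) hd1 hd2
  rcases over_four' hp h3 hf hF hs hmax hres hd1 with ⟨W, hW0, hW, hle⟩ | h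
  · have hinv : Inv (spToGL 3 F (x * transv v 1)) W := inv_of_mem (hle hbN)
    have hKW : K ≤ stab W := fun k hk => hle ⟨k, hKN hk, rfl⟩
    rcases hW with h1 | ⟨h1, h2⟩
    · left
      rw [← E.line hp hf hF hs hinv h1]
      exact hKW
    · right
      rw [← E.plane hf hF hs hinv h2 hW0 h1]
      exact hKW
  · exfalso
    obtain ⟨k, hk⟩ := E.right
    refine avoid_ft Nat.prime_two (x := spToGL 3 F (x * transv v 1)) (y := spToGL 3 F (transv v 1)) (n := k)
      (by rw [← map_pow, hk]) (by rw [hord, E.ordt]; exact hp2) (P := Polynomial.X - 1) ?_ h 1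
      (by rw [one_mul, inv_one, mul_one]; exact hbN)
    rw [finrank_ker_transv E.v0]
    norm_num

theorem spr_psp6 (h06 : ∀ H : Subgroup (GL (Fin 3 ⊕ Fin 3) F), IsMaximalIn (spGL 3 F) H →
    InSymplecticResidualClass H → L06 H) (hp : p.Prime) (h3 : 3 ≤ p) (hf : 1 ≤ f) (hF : Nat.card F = p ^ f) :
    Spr (PSp 3 F) := by
  classical
  have hfin : Finite (Matrix.symplecticGroup (Fin 3) F) := inferInstance
  have hsimple : IsSimpleGroup (PSp 3 F) := S0270.result 3 (by norm_num) (by norm_num)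
  obtain ⟨s, hs⟩ := exists_pp (p := p) (f := f) h3 hf (k := 4) (by norm_num)
  obtain ⟨x, v, E⟩ := exists_b' (F := F) hp hf hF hs
  have hv1 : finrank F (Submodule.span F {v}) = 1 := finrank_span_singleton E.v0
  have h6 : finrank F (Fin 3 ⊕ Fin 3 → F) = 6 := by rw [finrank_fintype_fun_eq_card]; rfl
  have hd := E.dim
  have ht1 : stab (Submodule.span F {v}) ≠ ⊤ := by
    refine stab_ne_top ?_ ?_
    · rw [Ne, Submodule.span_singleton_eq_bot]; exact E.v0
    · intro h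
      rw [h, finrank_top, h6] at hv1
      omega
  have ht2 : stab (fx (spToGL 3 F x)) ≠ ⊤ := by
    refine stab_ne_top ?_ ?_
    · intro h
      rw [h, finrank_bot] at hd
      omega
    · intro h
      rw [h, finrank_top, h6] at hd
      omega
  refine spr_of_two_up (s := x * transv v (1 : F)) psp6_not_comm (QuotientGroup.mk' _)
    (QuotientGroup.mk'_surjective _) (ker_le_stab (Submodule.span F {v})) (ker_le_stab (fx (spToGL 3 F x))) ht1 ht2
    ?_ (fun K _ hbK hK => over_b h06 hp h3 hf hF hs E hbK hK)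
  intro y hy
  have hb2 : x * transv v (1 : F) ∈ stab (fx (spToGL 3 F x)) :=
    mem_stab_fx ((Commute.refl x).mul_right E.comm)
  rw [← hy] at hb2
  have h2 := E.line hp hf hF hs (inv_of_conj hb2) (by rw [finrank_comap, hv1])
  have hym : y ∈ stab (Submodule.span F {v}) := by
    rw [← inv_inv y]
    exact (stab _).inv_mem (mem_stab_of_comap h2)
  rw [← hy]
  exact (conj_stab hym).symm

end Cfsg.Agent.H458.Spr6
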