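import Cfsg.Agent.H109.Cov.Kill

/-!
# S3938, `PSp_6(q)`: overgroups of the element `b` (odd characteristic, `p = 3` included)

* `exists_hom`  : a residual subgroup acts on its socle, the kernel consists of elements of square one;
* `res_three`   : the residual subgroups in characteristic 3;
* `over_four'`  : the geometric part, any odd characteristic.
-/

set_option autoImplicit false

namespace Cfsg.Agent.H458.Spr6

open Cfsg Cfsg.Geo Module Cfsg.Agent.ClassicalGeometry.SympBasic Cfsg.Agent.H109.Cov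
open Cfsg.Agent.H753 (conjNormal_injective)
open Cfsg.Agent.H876 (spToGL)
open scoped Matrix MatrixGroups

universe u

/-- a residual subgroup acts on its socle -/
theorem exists_hom {F : Type u} [Field F] [Finite F] {m : ℕ} (hm : 1 ≤ m) {H P : Subgroup (GL (Fin m ⊕ Fin m) F)}
    (hle : H ≤ spGL m F) (hc : IsResidualCore H P) :
    ∃ φ : H →* MulAut (P ⧸ (scalars (Fin m ⊕ Fin m) F).subgroupOf P), ∀ h : H, φ h = 1 → h ^ 2 = 1 := by
  classical
  set Z : Subgroup H := (scalars (Fin m ⊕ Fin m) F).subgroupOf H with hZ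
  have hZn : Z.Normal := inferInstance
  have hPn : (P.subgroupOf H).Normal := ⟨fun x hx g => hc.normal g g.2 x hx⟩
  set T : Subgroup (H ⧸ Z) := (P.subgroupOf H).map (QuotientGroup.mk' Z) with hT
  have hTn : T.Normal := hPn.map _ (QuotientGroup.mk'_surjective Z)
  have hcent : Subgroup.centralizer (T : Set (H ⧸ Z)) = ⊥ := by
    rw [eq_bot_iff]
    intro g hg
    obtain ⟨h, rfl⟩ := QuotientGroup.mk_surjective g
    rw [Subgroup.mem_bot]
    apply (QuotientGroup.eq_one_iff _).2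
    refine hc.centralizer_scalar h h.2 ?_
    intro x hx
    obtain ⟨x', hx'⟩ : ∃ x' : H, (x' : GL (Fin m ⊕ Fin m) F) = x := ⟨⟨x, hc.le hx⟩, rfl⟩
    have h1 := Subgroup.mem_centralizer_iff.1 hg (QuotientGroup.mk' Z x')
      ⟨x', by rw [SetLike.mem_coe, Subgroup.mem_subgroupOf, hx']; exact hx, rfl⟩
    have h2 : QuotientGroup.mk' Z (h * x' * h⁻¹ * x'⁻¹) = 1 := by
      rw [map_mul, map_mul, map_mul, map_inv, map_inv]
      change (h : H ⧸ Z) * _ * (h : H ⧸ Z)⁻¹ * _ = 1
      rw [← h1]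
      group
    rw [QuotientGroup.mk'_apply, QuotientGroup.eq_one_iff, hZ, Subgroup.mem_subgroupOf] at h2
    rw [← hx']
    simpa only [Subgroup.coe_mul, Subgroup.coe_inv] using h2
  obtain ⟨f, hfx⟩ : ∃ f : P →* T, ∀ x : P, (f x : H ⧸ Z) = QuotientGroup.mk' Z ⟨x, hc.le x.2⟩ :=
    ⟨{ toFun := fun x => ⟨QuotientGroup.mk' Z ⟨x, hc.le x.2⟩, ⟨⟨x, hc.le x.2⟩, x.2, rfl⟩⟩
       map_one' := Subtype.ext rfl
       map_mul' := fun x y => Subtype.ext rfl }, fun x => rfl⟩
  have hf : Function.Surjective f := by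
    rintro ⟨_, ⟨x, hx, rfl⟩⟩
    exact ⟨⟨x, hx⟩, Subtype.ext (hfx _)⟩
  have hker : f.ker = (scalars (Fin m ⊕ Fin m) F).subgroupOf P := by
    ext x
    rw [MonoidHom.mem_ker, Subgroup.mem_subgroupOf, ← Subtype.coe_inj, hfx, QuotientGroup.mk'_apply,
      Subgroup.coe_one, QuotientGroup.eq_one_iff, hZ, Subgroup.mem_subgroupOf]
  have e : T ≃* P ⧸ (scalars (Fin m ⊕ Fin m) F).subgroupOf P :=
    (QuotientGroup.quotientKerEquivOfSurjective f hf).symm.trans (QuotientGroup.quotientMulEquivOfEq hker)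
  refine ⟨((MulAut.congr e).toMonoidHom.comp (MulAut.conjNormal : H ⧸ Z →* MulAut T)).comp (QuotientGroup.mk' Z),
    fun h h1 => ?_⟩
  have h2 : (MulAut.conjNormal : H ⧸ Z →* MulAut T) (QuotientGroup.mk' Z h) = 1 :=
    (MulAut.congr e).injective (by rw [map_one]; exact h1)
  have h3 : QuotientGroup.mk' Z h = 1 := conjNormal_injective T hcent (h2.trans (map_one _).symm)
  rw [QuotientGroup.mk'_apply, QuotientGroup.eq_one_iff] at h3
  rcases H914.S6.scalar_cases hm (hle h.2) h3 with h4 | h4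
  · have h5 : h = 1 := Subtype.ext h4
    rw [h5, one_pow]
  · apply Subtype.ext
    rw [Subgroup.coe_pow, h4, neg_one_sq]
    rfl

/-- no element of order 15 in the symmetric group of degree 5 -/
theorem perm_five (g : Equiv.Perm (Fin 5)) : orderOf g ≠ 15 := by
  intro h
  have h1 := Equiv.Perm.lcm_cycleType g
  rw [h] at h1
  have h2 := Equiv.Perm.sum_cycleType g
  have h3 : g.support.card ≤ 5 := by
    have := Finset.card_le_univ g.support
    simpa using this
  rw [← h2] at h3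
  have hmem : ∀ n ∈ g.cycleType, n ≤ 5 := fun n hn => (Multiset.le_sum_of_mem hn).trans h3
  -- a cycle of length divisible by a prime
  have key : ∀ r : ℕ, r.Prime → r ∣ 15 → ∃ n ∈ g.cycleType, r ∣ n := by
    intro r hr hr15
    rw [← h1] at hr15
    by_contra hcon
    push Not at hcon
    have h4 : ∀ s : Multiset ℕ, (∀ n ∈ s, ¬ r ∣ n) → ¬ r ∣ s.lcm := by
      intro s
      induction s using Multiset.induction_on with
      | empty =>
        intro _ h5
        rw [Multiset.lcm_zero] at h5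
        exact hr.one_lt.ne' (Nat.dvd_one.1 h5)
      | cons a s ih =>
        intro h5 h6
        rw [Multiset.lcm_cons] at h6
        have h7 : r ∣ a * s.lcm := h6.trans (lcm_dvd_mul a s.lcm)
        rcases hr.dvd_mul.1 h7 with h8 | h8
        · exact h5 a (Multiset.mem_cons_self a s) h8
        · exact ih (fun n hn => h5 n (Multiset.mem_cons_of_mem hn)) h8
    exact h4 _ hcon hr15
  obtain ⟨a, ha, ha3⟩ := key 3 (by norm_num) (by norm_num)
  obtain ⟨b, hb, hb5⟩ := key 5 (by norm_num) (by norm_num)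
  have ha2 := Equiv.Perm.two_le_of_mem_cycleType ha
  have hb2 := Equiv.Perm.two_le_of_mem_cycleType hb
  have ha5 := hmem a ha
  have hb5' := hmem b hb
  have hab : a ≠ b := by
    rintro rfl
    omega
  have h6 : a + b ≤ g.cycleType.sum := by
    obtain ⟨s, hs⟩ := Multiset.exists_cons_of_mem ha
    rw [hs, Multiset.sum_cons]
    have h7 : b ∈ s := by
      rw [hs, Multiset.mem_cons] at hb
      exact hb.resolve_left (Ne.symm hab)
    have := Multiset.le_sum_of_mem h7
    omega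
  omega

theorem aut_a7 : Nat.card (MulAut (alternatingGroup (Fin 7))) = 5040 := by
  rw [← Nat.card_congr (Equiv.ofBijective _ (S2119.result 7 (by norm_num) (by norm_num))), Nat.card_perm, Nat.card_fin]
  rfl

theorem pr_10080 {s : ℕ} (hs : s.Prime) (h5 : 5 ≤ s) (h : s ∣ 2 * 5040) : s = 5 ∨ s = 7 := by
  have h1 : s ∣ 2 ^ 5 * 3 ^ 2 * 5 * 7 := by norm_num at h ⊢; exact h
  rcases hs.dvd_mul.1 h1 with h2 | h2
  · rcases hs.dvd_mul.1 h2 with h3 | h3
    · rcases hs.dvd_mul.1 h3 with h4 | h4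
      · have := Nat.le_of_dvd (by norm_num) (hs.dvd_of_dvd_pow h4); omega
      · have := Nat.le_of_dvd (by norm_num) (hs.dvd_of_dvd_pow h4); omega
    · exact Or.inl ((Nat.prime_dvd_prime_iff_eq hs (by norm_num)).1 h3)
  · exact Or.inr ((Nat.prime_dvd_prime_iff_eq hs (by norm_num)).1 h2)

variable {F : Type u} [Field F] [Fintype F] {p f : ℕ}

/-- the residual subgroups in characteristic 3 -/
theorem res_three (hf : 1 ≤ f) (hF : Nat.card F = 3 ^ f) {s : ℕ} (hs : PP 3 f 4 s)
    {H : Subgroup (GL (Fin 3 ⊕ Fin 3) F)} (hle : H ≤ spGL 3 F) (h : L06 H) (hd : s ∣ Nat.card H)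
    {b : GL (Fin 3 ⊕ Fin 3) F} (hb : b ∈ H) (hbo : orderOf b = s * 3) : False := by
  obtain ⟨P, p', hc, hp', hch, h⟩ := h
  have hpp : p' = 3 := char_eq (by norm_num) hF hp'
  subst hpp
  have hd2 := card_dvd (m := 3) (by norm_num) hle hc
  have hs4 := hs.lt hf (by norm_num)
  have hsub := hs.sub
  have hF' : Fintype.card F = 3 ^ f := by rw [← Nat.card_eq_fintype_card]; exact hF
  have hf1 : Fintype.card F = 3 → f = 1 := by
    intro h1
    rw [hF'] at h1
    exact Nat.pow_right_injective (show 2 ≤ 3 by norm_num) (show 3 ^ f = 3 ^ 1 by rw [h1])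
  have hf2 : Fintype.card F = 9 → f = 2 := by
    intro h1
    rw [hF'] at h1
    exact Nat.pow_right_injective (show 2 ≤ 3 by norm_num) (show 3 ^ f = 3 ^ 2 by rw [h1])
  rcases h with ⟨⟨e⟩, h, -⟩ | ⟨-, h⟩ | ⟨⟨e⟩, h⟩ | ⟨⟨e⟩, h⟩ | ⟨-, h⟩ | ⟨e, h⟩ | ⟨-, h⟩ | ⟨-, h, -⟩
  · -- `A_5`, `q = 3`
    rw [Nat.card_congr (MulAut.congr e).toEquiv, aut_a5] at hd2
    have h5 := pr_240 hs.prime (by omega) (hd.trans hd2)
    subst h5
    obtain ⟨φ, hφ⟩ := exists_hom (m := 3) (by norm_num) hle hc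
    let ψ : H →* MulAut (alternatingGroup (Fin 5)) := (MulAut.congr e).toMonoidHom.comp φ
    have hψ : ∀ h : H, ψ h = 1 → h ^ 2 = 1 := fun h h1 => hφ h ((MulAut.congr e).injective (by rw [map_one]; exact h1))
    obtain ⟨g, hg⟩ := (S2119.result 5 (by norm_num) (by norm_num)).2 (ψ ⟨b, hb⟩)
    apply perm_five g
    have h6 : orderOf (⟨b, hb⟩ : H) = 15 := by
      rw [Subgroup.orderOf_mk, hbo]
    have h7 : orderOf g = orderOf (ψ ⟨b, hb⟩) := by
      rw [← hg]
      exact (orderOf_injective _ (S2119.result 5 (by norm_num) (by norm_num)).1 g).symm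
    rw [h7]
    apply Nat.dvd_antisymm
    · rw [← h6]
      exact orderOf_map_dvd ψ _
    · have h8 : ψ ((⟨b, hb⟩ : H) ^ orderOf (ψ ⟨b, hb⟩)) = 1 := by rw [map_pow, pow_orderOf_eq_one]
      have h9 := hψ _ h8
      rw [← pow_mul] at h9
      have h10 := orderOf_dvd_of_pow_eq_one h9
      rw [h6] at h10
      exact (Nat.Coprime.dvd_of_dvd_mul_right (by norm_num) h10)
  · rcases h with ⟨-, -, h⟩ | ⟨-, h, -⟩
    · omega
    · exact h rfl
  · rw [Nat.card_congr (MulAut.congr e).toEquiv, aut_l13] at hd2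
    rcases h with ⟨h1, -⟩ | ⟨-, h1⟩
    · have h2 := hf1 h1
      subst h2
      have h3 := pr_4368 hs.prime (by omega) (hd.trans hd2)
      have h4 : s ∣ 3 ^ 4 - 1 := (hs.iff 4).2 dvd_rfl
      rcases h3 with rfl | rfl <;> norm_num at h4
    · omega
  · have h2 := hf2 h
    subst h2
    rw [Nat.card_congr (MulAut.congr e).toEquiv, aut_a7] at hd2
    have h3 := pr_10080 hs.prime (by omega) (hd.trans hd2)
    rcases h3 with rfl | rfl <;> norm_num at hsub
  · rcases h with h | ⟨-, h⟩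
    · rw [hF'] at h
      have h1 : 3 ∣ 2 := by rw [← h]; exact dvd_pow_self _ (by omega)
      norm_num at h1
    · omega
  · rcases h with ⟨-, h⟩ | ⟨h1, -⟩
    · omega
    · have h2 := hf2 (by rw [h1]; norm_num)
      subst h2
      have h4 : s ∣ 2419200 := hd.trans (hd2.trans (by
        have := Nat.mul_dvd_mul (dvd_refl 2) (aut_j2 e)
        exact this))
      have h3 := pr_2419200 hs.prime (by omega) h4
      rcases h3 with rfl | rfl <;> norm_num at hsub
  · omega
  · omega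

/-- the maximal subgroups whose order is divisible by the primitive prime `s` of exponent 4, residual class excluded -/
theorem over_four' (hp : p.Prime) (h3 : 3 ≤ p) (hf : 1 ≤ f) (hF : Nat.card F = p ^ f) {s : ℕ} (hs : PP p f 4 s)
    {H : Subgroup (GL (Fin 3 ⊕ Fin 3) F)} (hH : IsMaximalIn (spGL 3 F) H)
    (hres : ¬ InSymplecticResidualClass H) (hd : s ∣ Nat.card H) : Low H ∨ FT 2 H := by
  have hs4 := hs.lt hf (by norm_num)
  have hodd : Odd (Fintype.card F) := by
    rw [← Nat.card_eq_fintype_card, hF]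
    exact (hp.odd_of_ne_two (by omega)).pow
  obtain ⟨x, hxH, hxs, hx1⟩ := exists_elt hs.prime hd
  have hxsp : x ∈ spGL 3 F := hH.1.le hxH
  rcases S5805.result H hH with ⟨W, hW0, hts, e⟩ | ⟨W, hW0, hnd, hW, e⟩ | ⟨-, D, hD, e⟩ | ⟨-, D, hD, -, e⟩ |
    ⟨K, hK, -, -, e⟩ | ⟨-, K, hK, -, -, e⟩ | ⟨-, -, e', P, f₁, f₂, -, -, -, e⟩ | ⟨F₀, r', P, ζ, hr', hc, -, -, e⟩ |
    ⟨h, -⟩ | h
  · left
    refine ⟨W, hW0, Or.inl ?_, by rw [e]; exact inf_le_left⟩
    rw [e] at hxH
    have hinv := inv_of_mem hxH.1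
    have h1 := four_fx hs hf hF hxs hx1
    have h2 := finrank_le_of_ts hts
    have h3 := hs.dvd_dim hf hF hxs hinv
    have h4 : finrank F (W ⊓ fx x : Submodule F _) ≤ finrank F W := Submodule.finrank_mono inf_le_left
    have h6 : W ⊓ fx x = W := Submodule.eq_of_le_of_finrank_eq inf_le_left (by omega)
    have h7 : W ≤ fx x := inf_eq_left.1 h6
    have h8 := Submodule.finrank_mono h7
    have h9 : finrank F W ≠ 0 := by
      rw [Ne, Submodule.finrank_eq_zero]; exact hW0
    by_contra hcon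
    have h10 : W = fx x := Submodule.eq_of_le_of_finrank_eq h7 (by omega)
    obtain ⟨w, hw, hw0⟩ := (Submodule.ne_bot_iff _).1 hW0
    obtain ⟨y, hy, hy1⟩ := fx_nd hxsp hxs (cast_ne hp hF hs.prime (hs.ne_char hp)) (h7 hw) hw0
    rw [← h10] at hy
    exact hy1 (hts y hy w hw)
  · left
    exact ⟨W, hW0, Or.inr ⟨hnd, by omega⟩, by rw [e]; exact inf_le_left⟩
  · exfalso
    rw [e] at hd
    exact kill_decomp hs hf hF hD.decomp (by omega) (by norm_num) (dvd_left hd)
  · exfalso
    rw [e] at hd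
    exact kill_decomp hs hf hF hD (by omega) (by norm_num) (dvd_left hd)
  · exfalso
    rw [e] at hd
    refine kill_extension hs hf hF (by norm_num) hK (by omega) ?_ (dvd_left hd)
    intro i h1 h2
    have h3 : Fintype.card (Fin 3 ⊕ Fin 3) / 3 = 2 := rfl
    rw [h3] at h2
    omega
  · right
    exact ⟨K, hK, by rw [e]; exact inf_le_left⟩
  · exfalso
    rw [e] at hd
    exact kill_tensor hs hf hF e' P (by norm_num) (by norm_num) (dvd_left hd)
  · exfalso
    rw [e] at hd
    refine kill_subfield hp hs hf hF hr'.two_le hc P (by norm_num) ?_ (dvd_left hd)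
    have : Fintype.card (Fin 3 ⊕ Fin 3) = 6 := rfl
    have := hr'.two_le
    omega
  · exact absurd hodd h
  · exact absurd h hres

end Cfsg.Agent.H458.Spr6
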